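import Mathlib

set_option autoImplicit false

namespace Cfsg.Agent.Lib.Helper19

open MulAction

variable {G : Type*} [Group G] {Ω : Type*} [MulAction G Ω]

/-- In a faithful primitive action with nontrivial point stabilizers, the stabilizers of two
distinct points generate the group. -/
theorem stabilizer_sup_stabilizer_eq_top [FaithfulSMul G Ω] (hprim : IsPreprimitive G Ω)
    (hH : ∀ a : Ω, stabilizer G a ≠ ⊥) {a b : Ω} (hab : a ≠ b) :
    stabilizer G a ⊔ stabilizer G b = ⊤ := by
  have hnt : Nontrivial Ω := ⟨a, b, hab⟩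
  have hco : IsCoatom (stabilizer G a) :=
    IsPreprimitive.isCoatom_stabilizer_of_isPreprimitive _ a
  have hcob : IsCoatom (stabilizer G b) :=
    IsPreprimitive.isCoatom_stabilizer_of_isPreprimitive _ b
  rcases hco.le_iff.mp (le_sup_left : stabilizer G a ≤ stabilizer G a ⊔ stabilizer G b) with h | h
  · exact h
  exfalso
  have hle : stabilizer G b ≤ stabilizer G a := by rw [← h]; exact le_sup_right
  have heq : stabilizer G a = stabilizer G b := by
    rcases hcob.le_iff.mp hle with h' | h'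
    · exact absurd h' hco.1
    · exact h'
  obtain ⟨g, hg⟩ := exists_smul_eq G a b
  have hgn : g ∈ Subgroup.normalizer (stabilizer G a : Set G) := by
    rw [Subgroup.mem_normalizer_iff_map_conj_eq]
    have := stabilizer_smul_eq_stabilizer_map_conj g a
    rw [hg, ← heq] at this
    exact this.symm
  have hgs : g ∉ stabilizer G a := by
    intro hgs
    rw [mem_stabilizer_iff] at hgs
    exact hab (hgs.symm.trans hg)
  have hnorm : Subgroup.normalizer (stabilizer G a : Set G) = ⊤ := by
    rcases hco.le_iff.mp (Subgroup.le_normalizer (H := stabilizer G a)) with h' | h'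
    · exact h'
    · rw [h'] at hgn; exact absurd hgn hgs
  have hstab : ∀ c : Ω, stabilizer G c = stabilizer G a := by
    intro c
    obtain ⟨k, rfl⟩ := exists_smul_eq G a c
    rw [stabilizer_smul_eq_stabilizer_map_conj]
    have hk : k ∈ Subgroup.normalizer (stabilizer G a : Set G) := by rw [hnorm]; trivial
    exact Subgroup.mem_normalizer_iff_map_conj_eq.mp hk
  apply hH a
  refine (Subgroup.eq_bot_iff_forall _).mpr fun n hn => ?_
  apply FaithfulSMul.eq_of_smul_eq_smul (α := Ω)
  intro c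
  have : n ∈ stabilizer G c := by rw [hstab c]; exact hn
  rw [one_smul]
  exact this

/-- A nonempty set invariant under the stabilizers of two distinct points is everything. -/
theorem eq_univ_of_invariant [FaithfulSMul G Ω] (hprim : IsPreprimitive G Ω)
    (hH : ∀ a : Ω, stabilizer G a ≠ ⊥) {a b : Ω} (hab : a ≠ b) (E : Set Ω) (hne : E.Nonempty)
    (ha : ∀ g ∈ stabilizer G a, ∀ y ∈ E, g • y ∈ E)
    (hb : ∀ g ∈ stabilizer G b, ∀ y ∈ E, g • y ∈ E) : E = Set.univ := by
  let St : Subgroup G :=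
    { carrier := {g | ∀ y, g • y ∈ E ↔ y ∈ E}
      one_mem' := fun y => by rw [one_smul]
      mul_mem' := fun {g h} hg hh y => by rw [mul_smul, hg, hh]
      inv_mem' := fun {g} hg y => by
        have := hg (g⁻¹ • y)
        rw [smul_inv_smul] at this
        exact this.symm }
  have h1 : stabilizer G a ≤ St := by
    intro g hg y
    constructor
    · intro h
      have := ha g⁻¹ (inv_mem hg) _ h
      rwa [inv_smul_smul] at this
    · exact ha g hg y
  have h2 : stabilizer G b ≤ St := by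
    intro g hg y
    constructor
    · intro h
      have := hb g⁻¹ (inv_mem hg) _ h
      rwa [inv_smul_smul] at this
    · exact hb g hg y
  have htop : St = ⊤ := by
    rw [eq_top_iff, ← stabilizer_sup_stabilizer_eq_top hprim hH hab]
    exact sup_le h1 h2
  obtain ⟨e, he⟩ := hne
  rw [Set.eq_univ_iff_forall]
  intro w
  obtain ⟨g, rfl⟩ := exists_smul_eq G e w
  have hg : g ∈ St := by rw [htop]; trivial
  exact (hg e).mpr he

/-- The subdegree as a relative index. -/
theorem ncard_orbit_stabilizer (x y : Ω) :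
    (orbit (stabilizer G x) y).ncard = (stabilizer G y).relIndex (stabilizer G x) := by
  rw [← index_stabilizer]
  congr 1

theorem card_inf_mul_ncard_orbit (x y : Ω) :
    Nat.card (stabilizer G y ⊓ stabilizer G x : Subgroup G) * (orbit (stabilizer G x) y).ncard
      = Nat.card (stabilizer G x) := by
  rw [ncard_orbit_stabilizer, ← Subgroup.inf_relIndex_right, ← Subgroup.relIndex_bot_left,
    ← Subgroup.relIndex_bot_left, Subgroup.relIndex_mul_relIndex _ _ _ bot_le inf_le_right]

theorem card_stabilizer_eq [IsPretransitive G Ω] (x y : Ω) :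
    Nat.card (stabilizer G x) = Nat.card (stabilizer G y) := by
  obtain ⟨g, rfl⟩ := exists_smul_eq G x y
  rw [stabilizer_smul_eq_stabilizer_map_conj,
    Subgroup.card_map_of_injective (MulAut.conj g).injective]

/-- Paired subdegrees are equal. -/
theorem ncard_orbit_stabilizer_comm [Finite G] [IsPretransitive G Ω] (x y : Ω) :
    (orbit (stabilizer G x) y).ncard = (orbit (stabilizer G y) x).ncard := by
  have h1 := card_inf_mul_ncard_orbit (G := G) x y
  have h2 := card_inf_mul_ncard_orbit (G := G) y x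
  rw [card_stabilizer_eq x y, ← h2, inf_comm] at h1
  exact Nat.eq_of_mul_eq_mul_left Nat.card_pos h1

/-! ### Manning's theorem -/

/-- The orbital of the pair `(α, ω)`. -/
def Orb (G : Type*) [Group G] {Ω : Type*} [MulAction G Ω] (α ω x y : Ω) : Prop :=
  ∃ g : G, g • α = x ∧ g • ω = y

/-- The kernel of `G_x` on the suborbit at `x` of the orbital of `(α, ω)`. -/
def Ker (G : Type*) [Group G] {Ω : Type*} [MulAction G Ω] (α ω x : Ω) : Subgroup G where
  carrier := {k | k • x = x ∧ ∀ y, Orb G α ω x y → k • y = y}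
  one_mem' := ⟨one_smul _ _, fun _ _ => one_smul _ _⟩
  mul_mem' := fun {a b} ha hb =>
    ⟨by rw [mul_smul, hb.1, ha.1], fun y hy => by rw [mul_smul, hb.2 y hy, ha.2 y hy]⟩
  inv_mem' := fun {a} ha =>
    ⟨by rw [inv_smul_eq_iff, ha.1], fun y hy => by rw [inv_smul_eq_iff, ha.2 y hy]⟩

/-- The fixed points of `Ker`. -/
def Fx (G : Type*) [Group G] {Ω : Type*} [MulAction G Ω] (α ω x : Ω) : Set Ω :=
  {y | ∀ k ∈ Ker G α ω x, k • y = y}

theorem Orb.smul {α ω x y : Ω} (h : Orb G α ω x y) (g : G) : Orb G α ω (g • x) (g • y) := by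
  obtain ⟨k, rfl, rfl⟩ := h
  exact ⟨g * k, mul_smul _ _ _, mul_smul _ _ _⟩

theorem Ker.conj {α ω x : Ω} {k : G} (hk : k ∈ Ker G α ω x) (g : G) :
    g * k * g⁻¹ ∈ Ker G α ω (g • x) := by
  refine ⟨?_, fun y hy => ?_⟩
  · rw [mul_smul, mul_smul, inv_smul_smul, hk.1]
  · have h1 : Orb G α ω x (g⁻¹ • y) := by
      have := hy.smul g⁻¹
      rwa [inv_smul_smul] at this
    rw [mul_smul, mul_smul, hk.2 _ h1, smul_inv_smul]

theorem Fx.inv_smul {α ω x y : Ω} {g : G} (hy : y ∈ Fx G α ω (g • x)) : g⁻¹ • y ∈ Fx G α ω x := by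
  intro k hk
  have := hy _ (Ker.conj hk g)
  rw [mul_smul, mul_smul] at this
  rw [← smul_left_cancel_iff g, this, smul_inv_smul]

theorem Fx.smul_of_mem_stabilizer {α ω x y : Ω} {g : G} (hg : g ∈ stabilizer G x)
    (hy : y ∈ Fx G α ω x) : g • y ∈ Fx G α ω x := by
  have h1 : g⁻¹ • x = x := by rw [inv_smul_eq_iff]; exact hg.symm
  have h2 : y ∈ Fx G α ω (g⁻¹ • x) := by rw [h1]; exact hy
  have := Fx.inv_smul h2
  rwa [inv_inv] at this

theorem Fx.ncard_eq [Finite Ω] [IsPretransitive G Ω] (α ω x z : Ω) :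
    (Fx G α ω x).ncard = (Fx G α ω z).ncard := by
  have key : ∀ (x : Ω) (g : G), (Fx G α ω (g • x)).ncard ≤ (Fx G α ω x).ncard := by
    intro x g
    apply Set.ncard_le_ncard_of_injOn (fun y => g⁻¹ • y)
    · intro y hy; exact Fx.inv_smul hy
    · intro a _ b _ hab; exact (smul_left_cancel_iff g⁻¹).mp hab
  obtain ⟨g, rfl⟩ := exists_smul_eq G x z
  apply le_antisymm
  · have := key (g • x) g⁻¹
    rwa [inv_smul_smul] at this
  · exact key x g

/-- **Manning's theorem**: in an extremely primitive group a point stabilizer acts faithfully on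
each of its nontrivial orbits. -/
theorem manning [Finite G] [Finite Ω] [FaithfulSMul G Ω] (hprim : IsPreprimitive G Ω)
    (hH : ∀ a : Ω, stabilizer G a ≠ ⊥)
    (hep : ∀ a w : Ω, IsPreprimitive (stabilizer G a) (orbit (stabilizer G a) w))
    (α ω : Ω) (hω : ω ≠ α) (h : G) (hα : h • α = α)
    (hfix : ∀ x ∈ orbit (stabilizer G α) ω, h • x = x) : h = 1 := by
  classical
  by_contra hne
  have hmemF : ∀ x : Ω, x ∈ Fx G α ω x := fun x k hk => hk.1
  have hOF : ∀ x y : Ω, Orb G α ω x y → y ∈ Fx G α ω x := fun x y hxy k hk => hk.2 y hxy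
  have hOne : ∀ x y : Ω, Orb G α ω x y → y ≠ x := by
    rintro x y ⟨g, rfl, rfl⟩ h
    exact hω ((smul_left_cancel_iff g).mp h)
  have hOex : ∀ x : Ω, ∃ y, Orb G α ω x y := by
    intro x
    obtain ⟨g, rfl⟩ := exists_smul_eq G α x
    exact ⟨g • ω, g, rfl, rfl⟩
  have hKle : ∀ x : Ω, Ker G α ω x ≤ stabilizer G x := fun x k hk => hk.1
  have hhK : h ∈ Ker G α ω α := by
    refine ⟨hα, ?_⟩
    rintro y ⟨g, hg, rfl⟩
    exact hfix _ ⟨⟨g, hg⟩, rfl⟩
  -- Fact 1
  have fact1 : ∀ x y : Ω, y ∉ Fx G α ω x → ∀ g ∈ stabilizer G x,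
      ∃ k ∈ Ker G α ω x, k • y = g • y := by
    intro x y hy g hg
    have hN : ((Ker G α ω x).subgroupOf (stabilizer G x)).Normal := by
      constructor
      intro n hn t
      rw [Subgroup.mem_subgroupOf] at hn ⊢
      have := Ker.conj hn (t : G)
      rw [show (t : G) • x = x from t.2] at this
      exact this
    have hq := hep x y
    have hnf : fixedPoints ((Ker G α ω x).subgroupOf (stabilizer G x))
        (orbit (stabilizer G x) y) ≠ Set.univ := by
      intro hu
      apply hy
      intro k hk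
      have h1 : (⟨y, mem_orbit_self y⟩ : orbit (stabilizer G x) y) ∈
          fixedPoints ((Ker G α ω x).subgroupOf (stabilizer G x)) (orbit (stabilizer G x) y) := by
        rw [hu]; trivial
      have h2 := h1 ⟨⟨k, hKle x hk⟩, hk⟩
      exact congrArg Subtype.val h2
    have htr := IsQuasiPreprimitive.isPretransitive_of_normal
      (G := stabilizer G x) (X := orbit (stabilizer G x) y) hnf
    obtain ⟨n, hn⟩ := htr.exists_smul_eq (⟨y, mem_orbit_self y⟩ : orbit (stabilizer G x) y)
      ⟨g • y, ⟨⟨g, hg⟩, rfl⟩⟩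
    exact ⟨((n : stabilizer G x) : G), n.2, congrArg Subtype.val hn⟩
  -- Fact 2
  have fact2 : ∀ x y z : Ω, z ∈ Fx G α ω x → z ≠ x → y ∉ Fx G α ω x →
      (orbit (stabilizer G x) y).ncard < (orbit (stabilizer G z) y).ncard := by
    intro x y z hz hzx hy
    have hsub : orbit (stabilizer G x) y ⊆ orbit (stabilizer G z) y := by
      rintro _ ⟨⟨g, hg⟩, rfl⟩
      obtain ⟨k, hk, hky⟩ := fact1 x y hy g hg
      exact ⟨⟨k, hz k hk⟩, hky⟩
    by_contra hlt
    push Not at hlt
    have heq := Set.eq_of_subset_of_ncard_le hsub hlt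
    have huniv : orbit (stabilizer G x) y = Set.univ := by
      apply eq_univ_of_invariant hprim hH hzx.symm _ ⟨y, mem_orbit_self y⟩
      · rintro g hg _ ⟨t, rfl⟩
        exact ⟨⟨g, hg⟩ * t, mul_smul _ _ _⟩
      · intro g hg w hw
        rw [heq] at hw ⊢
        obtain ⟨t, rfl⟩ := hw
        exact ⟨⟨g, hg⟩ * t, mul_smul _ _ _⟩
    have hx : x ∈ orbit (stabilizer G x) y := by rw [huniv]; trivial
    obtain ⟨t, ht⟩ := hx
    apply hy
    have : y = x := by
      have h1 : (t : G) • y = x := ht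
      have h2 : (t : G) • x = x := t.2
      exact (smul_left_cancel_iff (t : G)).mp (h1.trans h2.symm)
    rw [this]
    exact hmemF x
  -- extremal choice
  have hPne : ({p : Ω × Ω | p.2 ∉ Fx G α ω p.1}).Nonempty := by
    have : ∃ y : Ω, h • y ≠ y := by
      by_contra hcon
      push Not at hcon
      apply hne
      apply FaithfulSMul.eq_of_smul_eq_smul (α := Ω)
      intro c
      rw [hcon c, one_smul]
    obtain ⟨y, hy⟩ := this
    exact ⟨(α, y), fun hF => hy (hF h hhK)⟩
  obtain ⟨⟨γ, β⟩, hγβ, hmax⟩ := Set.exists_max_image {p : Ω × Ω | p.2 ∉ Fx G α ω p.1}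
    (fun p => (orbit (stabilizer G p.1) p.2).ncard) (Set.toFinite _) hPne
  have hγβ' : β ∉ Fx G α ω γ := hγβ
  have hβγ : β ≠ γ := fun h => hγβ' (h ▸ hmemF γ)
  have hsub : Fx G α ω γ \ {γ} ⊆ Fx G α ω β \ {β} := by
    rintro z ⟨hz, hzγ⟩
    have hzγ' : z ≠ γ := hzγ
    refine ⟨?_, fun hzβ => hγβ' (hzβ ▸ hz)⟩
    by_contra hzF
    have h1 := fact2 γ β z hz hzγ' hγβ'
    have h2 := hmax (β, z) hzF
    simp only at h2
    rw [ncard_orbit_stabilizer_comm β z] at h2
    omega
  have hcard : (Fx G α ω β \ {β}).ncard ≤ (Fx G α ω γ \ {γ}).ncard := by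
    rw [Set.ncard_sdiff_singleton_of_mem (hmemF β), Set.ncard_sdiff_singleton_of_mem (hmemF γ),
      Fx.ncard_eq α ω β γ]
  have heq := Set.eq_of_subset_of_ncard_le hsub hcard
  have huniv : Fx G α ω γ \ {γ} = Set.univ := by
    obtain ⟨y, hy⟩ := hOex γ
    have hne' : (Fx G α ω γ \ {γ}).Nonempty := ⟨y, hOF γ y hy, hOne γ y hy⟩
    apply eq_univ_of_invariant hprim hH hβγ.symm _ hne'
    · rintro g hg w ⟨hw, hwγ⟩
      refine ⟨Fx.smul_of_mem_stabilizer hg hw, fun hgw => hwγ ?_⟩
      have h1 : g • w = γ := hgw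
      have h2 : g • γ = γ := hg
      exact (smul_left_cancel_iff g).mp (h1.trans h2.symm)
    · intro g hg w hw
      rw [heq] at hw ⊢
      obtain ⟨hw, hwβ⟩ := hw
      refine ⟨Fx.smul_of_mem_stabilizer hg hw, fun hgw => hwβ ?_⟩
      have h1 : g • w = β := hgw
      have h2 : g • β = β := hg
      exact (smul_left_cancel_iff g).mp (h1.trans h2.symm)
  have : γ ∈ Fx G α ω γ \ {γ} := by rw [huniv]; trivial
  exact this.2 rfl

end Cfsg.Agent.Lib.Helper19
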